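import Cfsg.Agent.Lib.Recog.SporBound.Sound
import Cfsg.Agent.Lib.Recog.SporBound.UsixTop.Tree0
import Cfsg.Agent.Lib.Recog.SporBound.UsixTop.Tree1
import Cfsg.Agent.Lib.Recog.SporBound.UsixTop.Tree2
import Cfsg.Agent.Lib.Recog.SporBound.UsixTop.Tree3
import Cfsg.Agent.Lib.Recog.SporBound.UsixTop.Tree4
import Cfsg.Agent.Lib.Recog.SporBound.UsixTop.Tree5
import Cfsg.Agent.Lib.Recog.SporBound.UsixTop.Tree6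
import Cfsg.Agent.Lib.Recog.SporBound.UsixTop.Tree7
import Cfsg.Agent.Lib.Recog.SporBound.UsixTop.Tree8

set_option autoImplicit false
set_option maxRecDepth 20000

/-! Generated closure certificate: generators and relators for the multiplier of PSU(6,2) (owner: lead). -/

namespace CfsgLib.Recog.SporBound.UsixTop
open CfsgLib.Recog.SporBound

noncomputable def factTree : Q (ℕ) := (.node (.node (.node ft9 ft18 ft27 ft36) (.node ft45 ft54 ft63 ft72) (.node ft81 ft90 ft99 ft108) (.node ft117 ft126 ft135 ft144)) (.node (.node ft154 ft163 ft172 ft181) (.node ft190 ft199 ft208 ft217) (.node ft226 ft235 ft244 ft253) (.node ft262 ft271 ft280 ft289)) (.node (.node ft298 ft307 ft316 ft325) (.node ft334 ft343 ft352 ft361) (.node ft370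 ft379 ft388 ft397) (.node ft406 ft415 ft424 ft433)) (.node (.node ft442 ft451 ft460 ft469) (.node ft478 ft487 ft496 ft505) (.node ft514 ft523 ft532 ft541) (.node ft550 ft559 ft568 ft577)))
noncomputable def nodeTree : Q (ℕ) := (.node ct6 ct13 ct19 ct25)
noncomputable def stepTree : Q (List ℕ) := (.node (.node (.node st11 st23 st34 st45) (.node st57 st69 st80 st91) (.node st103 st115 st126 st137) (.node st149 st161 st172 st183)) (.node (.node st195 st207 st218 st229) (.node st241 st253 st264 st275) (.node st287 st299 st310 st321) (.node st333 st344 st355 st366)) (.node (.node st378 st390 st401 st412) (.node st424 st436 st447 st458) (.node st470 st482 st493 st504) (.node st516 st527 st538 st549)) (.node (.node st561 st573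 st584 st595) (.node st607 st619 st630 st641) (.node st653 st665 st676 st687) (.node st699 st710 st721 st732)))
noncomputable def finalTree : Q (List ℕ) := (.node (.node (.node et6 et13 et19 et25) (.node et32 et39 et45 et51) (.node et58 et65 et71 et77) (.node et84 et91 et97 et103)) (.node (.node et110 et117 et123 et129) (.node et136 et143 et149 et155) (.node et162 et169 et175 et181) (.node et188 et195 et201 et207)) (.node (.node et214 et221 et227 et233) (.node et240 et247 et253 et259) (.node et266 et273 et279 et285) (.node et292 et299 et305 et311)) (.node (.node et318 et325 et331 et337) (.node et344 et351 et357 et363) (.node et370 et377 et383 et389) (.node et396 et403 et409 et415)))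

/-- The certificate. -/
noncomputable def cert : Cert where
  n := 2816
  nd := 22888
  nf := 65673
  kl := [0, 1, 2, 3, 4, 5, 6, 7]
  facts := factTree
  cn := nodeTree
  steps := stepTree
  finals := finalTree
  rels := [[0, 0], [1, 1], [2, 2], [3, 3], [4, 4], [5, 5], [6, 6], [7, 7], [0, 1, 0, 1, 0, 1], [0, 2, 0, 2], [0, 3, 0, 3], [0, 4, 0, 4], [0, 5, 0, 5], [0, 6, 0, 6], [0, 7, 0, 7], [1, 2, 1, 2, 1, 2], [1, 3, 1, 3], [1, 4, 1, 4], [1, 5, 1, 5, 1, 5], [1, 6, 1, 6], [1, 7, 1, 7, 1, 7], [2, 3, 2, 3, 2, 3], [2, 4, 2, 4], [2, 5, 2, 5], [2, 6, 2, 6], [2, 7, 2, 7], [3, 4, 3, 4, 3, 4], [3, 5, 3, 5], [3, 6, 3, 6], [3, 7, 3, 7], [4, 5, 4, 5], [4, 6, 4, 6], [4, 7, 4, 7], [5, 6, 5, 6, 5, 6], [5, 7, 5, 7, 5, 7], [6, 7, 6, 7], [7,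 5, 1, 5, 7, 5, 1, 5, 7, 5, 1, 5], [4, 3, 2, 1, 5, 6, 0, 4, 3, 2, 1, 5, 6, 0, 4, 3, 2, 1, 5, 6, 0, 4, 3, 2, 1, 5, 6, 0, 4, 3, 2, 1, 5, 6, 0, 4, 3, 2, 1, 5, 6, 0, 4, 3, 2, 1, 5, 6, 0, 4, 3, 2, 1, 5, 6, 0, 4, 3, 2, 1, 5, 6, 0], [2, 5, 7, 3, 1, 6, 2, 5, 7, 3, 1, 6, 2, 5, 7, 3, 1, 6, 2, 5, 7, 3, 1, 6, 2, 5, 7, 3, 1, 6, 2, 5, 7, 3, 1, 6, 2, 5, 7, 3, 1, 6, 0, 6, 1, 3, 7, 5, 2, 6, 1, 3, 7, 5, 2, 6, 1, 3, 7, 5, 2, 6, 1, 3, 7, 5, 2, 6, 1, 3, 7, 5, 2, 6, 1, 3, 7, 5, 2, 6, 1, 3, 7, 5, 2, 0], [2, 5, 7, 3, 1, 6, 2, 5, 7, 3, 1, 6, 2, 5, 7, 3, 1, 6, 2, 5, 7, 3, 1, 6, 2, 5, 7, 3, 1, 6, 2, 5, 7, 3, 1, 6, 2, 5, 7, 3, 1, 6, 1, 6, 1, 3, 7, 5, 2, 6, 1, 3, 7, 5, 2, 6, 1, 3, 7, 5, 2, 6, 1, 3, 7, 5, 2, 6, 1, 3, 7, 5, 2, 6, 1, 3, 7, 5, 2, 6, 1, 3,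 7, 5, 2, 1], [2, 5, 7, 3, 1, 6, 2, 5, 7, 3, 1, 6, 2, 5, 7, 3, 1, 6, 2, 5, 7, 3, 1, 6, 2, 5, 7, 3, 1, 6, 2, 5, 7, 3, 1, 6, 2, 5, 7, 3, 1, 6, 2, 6, 1, 3, 7, 5, 2, 6, 1, 3, 7, 5, 2, 6, 1, 3, 7, 5, 2, 6, 1, 3, 7, 5, 2, 6, 1, 3, 7, 5, 2, 6, 1, 3, 7, 5, 2, 6, 1, 3, 7, 5, 2, 2], [2, 5, 7, 3, 1, 6, 2, 5, 7, 3, 1, 6, 2, 5, 7, 3, 1, 6, 2, 5, 7, 3, 1, 6, 2, 5, 7, 3, 1, 6, 2, 5, 7, 3, 1, 6, 2, 5, 7, 3, 1, 6, 3, 6, 1, 3, 7, 5, 2, 6, 1, 3, 7, 5, 2, 6, 1, 3, 7, 5, 2, 6, 1, 3, 7, 5, 2, 6, 1, 3, 7, 5, 2, 6, 1, 3, 7, 5, 2, 6, 1, 3, 7, 5, 2, 3], [2, 5, 7, 3, 1, 6, 2, 5, 7, 3, 1, 6, 2, 5, 7, 3, 1, 6, 2, 5, 7, 3, 1, 6, 2, 5, 7, 3, 1, 6, 2, 5, 7, 3, 1, 6, 2, 5, 7, 3, 1, 6, 4, 6, 1, 3, 7, 5, 2, 6, 1, 3, 7, 5, 2, 6, 1, 3, 7, 5, 2, 6, 1, 3, 7, 5,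 2, 6, 1, 3, 7, 5, 2, 6, 1, 3, 7, 5, 2, 6, 1, 3, 7, 5, 2, 4], [2, 5, 7, 3, 1, 6, 2, 5, 7, 3, 1, 6, 2, 5, 7, 3, 1, 6, 2, 5, 7, 3, 1, 6, 2, 5, 7, 3, 1, 6, 2, 5, 7, 3, 1, 6, 2, 5, 7, 3, 1, 6, 5, 6, 1, 3, 7, 5, 2, 6, 1, 3, 7, 5, 2, 6, 1, 3, 7, 5, 2, 6, 1, 3, 7, 5, 2, 6, 1, 3, 7, 5, 2, 6, 1, 3, 7, 5, 2, 6, 1, 3, 7, 5, 2, 5], [2, 5, 7, 3, 1, 6, 2, 5, 7, 3, 1, 6, 2, 5, 7, 3, 1, 6, 2, 5, 7, 3, 1, 6, 2, 5, 7, 3, 1, 6, 2, 5, 7, 3, 1, 6, 2, 5, 7, 3, 1, 6, 6, 6, 1, 3, 7, 5, 2, 6, 1, 3, 7, 5, 2, 6, 1, 3, 7, 5, 2, 6, 1, 3, 7, 5, 2, 6, 1, 3, 7, 5, 2, 6, 1, 3, 7, 5, 2, 6, 1, 3, 7, 5, 2, 6], [2, 5, 7, 3, 1, 6, 2, 5, 7, 3, 1, 6, 2, 5, 7, 3, 1, 6, 2, 5, 7, 3, 1, 6, 2, 5, 7, 3, 1, 6, 2, 5, 7, 3, 1, 6, 2, 5, 7, 3, 1, 6, 7, 6, 1, 3, 7, 5, 2, 6,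 1, 3, 7, 5, 2, 6, 1, 3, 7, 5, 2, 6, 1, 3, 7, 5, 2, 6, 1, 3, 7, 5, 2, 6, 1, 3, 7, 5, 2, 6, 1, 3, 7, 5, 2, 7], [7, 0, 6, 3, 1, 5, 2, 7, 0, 6, 3, 1, 5, 2, 7, 0, 6, 3, 1, 5, 2, 7, 0, 6, 3, 1, 5, 2, 7, 0, 6, 3, 1, 5, 2, 7, 0, 6, 3, 1, 5, 2, 7, 0, 6, 3, 1, 5, 2, 0, 2, 5, 1, 3, 6, 0, 7, 2, 5, 1, 3, 6, 0, 7, 2, 5, 1, 3, 6, 0, 7, 2, 5, 1, 3, 6, 0, 7, 2, 5, 1, 3, 6, 0, 7, 2, 5, 1, 3, 6, 0, 7, 2, 5, 1, 3, 6, 0, 7, 0], [7, 0, 6, 3, 1, 5, 2, 7, 0, 6, 3, 1, 5, 2, 7, 0, 6, 3, 1, 5, 2, 7, 0, 6, 3, 1, 5, 2, 7, 0, 6, 3, 1, 5, 2, 7, 0, 6, 3, 1, 5, 2, 7, 0, 6, 3, 1, 5, 2, 1, 2, 5, 1, 3, 6, 0, 7, 2, 5, 1, 3, 6, 0, 7, 2, 5, 1, 3, 6, 0, 7, 2, 5, 1, 3, 6, 0, 7, 2, 5, 1, 3, 6, 0, 7, 2, 5, 1, 3, 6, 0, 7, 2, 5, 1, 3, 6, 0, 7, 1], [7, 0, 6, 3, 1, 5,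 2, 7, 0, 6, 3, 1, 5, 2, 7, 0, 6, 3, 1, 5, 2, 7, 0, 6, 3, 1, 5, 2, 7, 0, 6, 3, 1, 5, 2, 7, 0, 6, 3, 1, 5, 2, 7, 0, 6, 3, 1, 5, 2, 2, 2, 5, 1, 3, 6, 0, 7, 2, 5, 1, 3, 6, 0, 7, 2, 5, 1, 3, 6, 0, 7, 2, 5, 1, 3, 6, 0, 7, 2, 5, 1, 3, 6, 0, 7, 2, 5, 1, 3, 6, 0, 7, 2, 5, 1, 3, 6, 0, 7, 2], [7, 0, 6, 3, 1, 5, 2, 7, 0, 6, 3, 1, 5, 2, 7, 0, 6, 3, 1, 5, 2, 7, 0, 6, 3, 1, 5, 2, 7, 0, 6, 3, 1, 5, 2, 7, 0, 6, 3, 1, 5, 2, 7, 0, 6, 3, 1, 5, 2, 3, 2, 5, 1, 3, 6, 0, 7, 2, 5, 1, 3, 6, 0, 7, 2, 5, 1, 3, 6, 0, 7, 2, 5, 1, 3, 6, 0, 7, 2, 5, 1, 3, 6, 0, 7, 2, 5, 1, 3, 6, 0, 7, 2, 5, 1, 3, 6, 0, 7, 3], [7, 0, 6, 3, 1, 5, 2, 7, 0, 6, 3, 1, 5, 2, 7, 0, 6, 3, 1, 5, 2, 7, 0, 6, 3, 1, 5, 2, 7, 0, 6, 3, 1, 5, 2, 7, 0, 6, 3, 1, 5, 2, 7, 0, 6, 3, 1, 5,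 2, 4, 2, 5, 1, 3, 6, 0, 7, 2, 5, 1, 3, 6, 0, 7, 2, 5, 1, 3, 6, 0, 7, 2, 5, 1, 3, 6, 0, 7, 2, 5, 1, 3, 6, 0, 7, 2, 5, 1, 3, 6, 0, 7, 2, 5, 1, 3, 6, 0, 7, 4], [7, 0, 6, 3, 1, 5, 2, 7, 0, 6, 3, 1, 5, 2, 7, 0, 6, 3, 1, 5, 2, 7, 0, 6, 3, 1, 5, 2, 7, 0, 6, 3, 1, 5, 2, 7, 0, 6, 3, 1, 5, 2, 7, 0, 6, 3, 1, 5, 2, 5, 2, 5, 1, 3, 6, 0, 7, 2, 5, 1, 3, 6, 0, 7, 2, 5, 1, 3, 6, 0, 7, 2, 5, 1, 3, 6, 0, 7, 2, 5, 1, 3, 6, 0, 7, 2, 5, 1, 3, 6, 0, 7, 2, 5, 1, 3, 6, 0, 7, 5], [7, 0, 6, 3, 1, 5, 2, 7, 0, 6, 3, 1, 5, 2, 7, 0, 6, 3, 1, 5, 2, 7, 0, 6, 3, 1, 5, 2, 7, 0, 6, 3, 1, 5, 2, 7, 0, 6, 3, 1, 5, 2, 7, 0, 6, 3, 1, 5, 2, 6, 2, 5, 1, 3, 6, 0, 7, 2, 5, 1, 3, 6, 0, 7, 2, 5, 1, 3, 6, 0, 7, 2, 5, 1, 3, 6, 0, 7, 2, 5, 1, 3, 6, 0, 7, 2, 5, 1, 3, 6,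 0, 7, 2, 5, 1, 3, 6, 0, 7, 6], [7, 0, 6, 3, 1, 5, 2, 7, 0, 6, 3, 1, 5, 2, 7, 0, 6, 3, 1, 5, 2, 7, 0, 6, 3, 1, 5, 2, 7, 0, 6, 3, 1, 5, 2, 7, 0, 6, 3, 1, 5, 2, 7, 0, 6, 3, 1, 5, 2, 7, 2, 5, 1, 3, 6, 0, 7, 2, 5, 1, 3, 6, 0, 7, 2, 5, 1, 3, 6, 0, 7, 2, 5, 1, 3, 6, 0, 7, 2, 5, 1, 3, 6, 0, 7, 2, 5, 1, 3, 6, 0, 7, 2, 5, 1, 3, 6, 0, 7, 7]]
  subs := [[1], [2], [3], [5], [6], [7]]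

/-- Chains of the traced words. -/
noncomputable def closers : List ℕ := []

end CfsgLib.Recog.SporBound.UsixTop
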